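import Groth.Agent.TorDiag.Main
import Groth.Prelude.Def_IntMult
import Mathlib

/-!
# Reduction to the diagonal for the Tor multiplicity
-/

set_option autoImplicit false
set_option linter.style.haveILetI false
set_option backward.isDefEq.respectTransparency false
set_option backward.isDefEq.respectTransparency.types false
set_option maxHeartbeats 800000

universe u

open CategoryTheory TensorProduct

namespace Groth.Agent.TorDiag

/-- Functoriality in the second variable. -/
theorem nonempty_tor_congr_right {A : Type u} [CommRing A] {N N' : Type u} [AddCommGroup N] [Module A N]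
    [AddCommGroup N'] [Module A N'] (e : N ≃ₗ[A] N') (n : ℕ) (M : Type u) [AddCommGroup M] [Module A M] :
    Nonempty (DRing.Tor A n M N ≃ₗ[A] DRing.Tor A n M N') :=
  ⟨((((Tor (ModuleCat.{u} A) n).obj (ModuleCat.of A M)).mapIso e.toModuleIso)).toLinearEquiv⟩

/-- `χ` is invariant under isomorphisms. -/
theorem chi_congr {A : Type u} [CommRing A] {M M' N N' : Type u} [AddCommGroup M] [Module A M]
    [AddCommGroup M'] [Module A M'] [AddCommGroup N] [Module A N] [AddCommGroup N'] [Module A N']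
    (e : M ≃ₗ[A] M') (e' : N ≃ₗ[A] N') : IntMult.chi A M N = IntMult.chi A M' N' := by
  refine finsum_congr fun i => ?_
  obtain ⟨a⟩ := TorBridge.nonempty_tor_congr e i N
  obtain ⟨b⟩ := nonempty_tor_congr_right e' i M'
  rw [(a.trans b).length_eq]

/-- Length is preserved by semilinear bijections over surjective ring maps. -/
theorem length_eq_of_semilinear {A B : Type u} [CommRing A] [CommRing B] {σ : A →+* B} [RingHomSurjective σ]
    {X Y : Type u} [AddCommGroup X] [Module A X] [AddCommGroup Y] [Module B Y] (f : X →ₛₗ[σ] Y)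
    (hf : Function.Bijective f) : Module.length A X = Module.length B Y := by
  apply WithBot.coe_injective
  rw [Module.coe_length, Module.coe_length]
  exact Order.krullDim_eq_of_orderIso (Submodule.orderIsoMapComapOfBijective f hf)

variable (k : Type u) [Field k] (R : Type u) [CommRing R] [Algebra k R] (P Q : Ideal R)

/-- The ideal of `Spec (R ⧸ P) × Spec (R ⧸ Q)`. -/
noncomputable def prodIdeal : Ideal (R ⊗[k] R) :=
  P.map (Algebra.TensorProduct.includeLeft : R →ₐ[k] R ⊗[k] R) ⊔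
    Q.map (Algebra.TensorProduct.includeRight : R →ₐ[k] R ⊗[k] R)

theorem ker_map_mk : RingHom.ker (Algebra.TensorProduct.map (Ideal.Quotient.mkₐ k P) (Ideal.Quotient.mkₐ k Q)) =
    prodIdeal k R P Q := by
  rw [Algebra.TensorProduct.map_ker (Ideal.Quotient.mkₐ k P) (Ideal.Quotient.mkₐ k Q)
    Ideal.Quotient.mk_surjective Ideal.Quotient.mk_surjective]
  unfold prodIdeal
  congr 2 <;> exact Ideal.mk_ker

/-- `R/P ⊠ R/Q` is a cyclic module. -/
theorem nonempty_box_quot : Nonempty (Box k R (R ⧸ P) (R ⧸ Q) ≃ₗ[R ⊗[k] R] (R ⊗[k] R) ⧸ prodIdeal k R P Q) := by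
  let g : R ⊗[k] R →ₗ[R ⊗[k] R] Box k R (R ⧸ P) (R ⧸ Q) :=
    LinearMap.toSpanSingleton _ _ (ofTensor k R (R ⧸ P) (R ⧸ Q) (1 ⊗ₜ[k] 1))
  have hg : ∀ b, g b = ofTensor k R (R ⧸ P) (R ⧸ Q)
      (Algebra.TensorProduct.map (Ideal.Quotient.mkₐ k P) (Ideal.Quotient.mkₐ k Q) b) := fun b => by
    show b • ofTensor k R (R ⧸ P) (R ⧸ Q) (1 ⊗ₜ[k] 1) = _
    induction b with
    | zero => simp
    | add b b' hb hb' => rw [add_smul, hb, hb', map_add, map_add]
    | tmul a c =>
      rw [smul_tmul_ofTensor, Algebra.TensorProduct.map_tmul]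
      congr 2 <;> exact (Algebra.algebraMap_eq_smul_one _).symm
  have hker : LinearMap.ker g = prodIdeal k R P Q := by
    ext b
    rw [← ker_map_mk, LinearMap.mem_ker, RingHom.mem_ker, hg, AddEquiv.map_eq_zero_iff]
  have hsurj : Function.Surjective g := fun x => by
    obtain ⟨x, rfl⟩ := (ofTensor k R (R ⧸ P) (R ⧸ Q)).surjective x
    obtain ⟨b, rfl⟩ := TensorProduct.map_surjective (g := (Ideal.Quotient.mkₐ k P).toLinearMap)
      (g' := (Ideal.Quotient.mkₐ k Q).toLinearMap) Ideal.Quotient.mk_surjective Ideal.Quotient.mk_surjective x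
    exact ⟨b, hg b⟩
  exact ⟨((Submodule.quotEquivOfEq _ _ hker.symm).trans (g.quotKerEquivOfSurjective hsurj)).symm⟩

/-- Base change of a cyclic module. -/
theorem nonempty_tensor_quot {S : Type u} [CommRing S] (A : Type u) [CommRing A] [Algebra S A] (I : Ideal S) :
    Nonempty ((A ⊗[S] (S ⧸ I)) ≃ₗ[A] A ⧸ I.map (algebraMap S A)) :=
  ⟨(Algebra.TensorProduct.quotIdealMapEquivTensorQuot A I).symm.toLinearEquiv⟩

variable {B' : Type u} [CommRing B'] [Algebra (R ⊗[k] R) B'] (W : Submonoid (R ⊗[k] R)) [IsLocalization W B']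
  {A : Type u} [CommRing A] [Algebra R A] [Module.Flat R A]

include W in
/-- **Reduction to the diagonal** of the Tor multiplicity. -/
theorem chi_eq (ν : B' →+* A) (hν : ν.comp (algebraMap (R ⊗[k] R) B') = (algebraMap R A).comp (mu k R))
    (hsurj : Function.Surjective ν) :
    IntMult.chi B' (B' ⧸ RingHom.ker ν) (B' ⧸ (prodIdeal k R P Q).map (algebraMap (R ⊗[k] R) B')) =
      IntMult.chi A (A ⧸ P.map (algebraMap R A)) (A ⧸ Q.map (algebraMap R A)) := by
  letI : Algebra B' A := ν.toAlgebra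
  letI : Module (R ⊗[k] R) A := Module.compHom A ((algebraMap R A).comp (mu k R))
  haveI : IsScalarTower (R ⊗[k] R) B' A := IsScalarTower.of_algebraMap_smul fun b a => by
    show ν (algebraMap _ B' b) * a = algebraMap R A (mu k R b) * a
    rw [← RingHom.comp_apply, hν]; rfl
  have hS : ∀ (b : R ⊗[k] R) (a : A), b • a = mu k R b • a := fun b a => by
    show algebraMap R A (mu k R b) * a = mu k R b • a
    rw [Algebra.smul_def]
  haveI : Module.Flat (R ⊗[k] R) B' := IsLocalization.flat B' W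
  haveI : RingHomSurjective ν := ⟨hsurj⟩
  obtain ⟨eA⟩ : Nonempty ((B' ⧸ RingHom.ker ν) ≃ₗ[B'] A) :=
    ⟨(Ideal.quotientKerAlgEquivOfSurjective (f := Algebra.ofId B' A) hsurj).toLinearEquiv⟩
  obtain ⟨e0⟩ := nonempty_box_quot k R P Q
  obtain ⟨e1⟩ := nonempty_tensor_quot B' (prodIdeal k R P Q)
  obtain ⟨eP⟩ := nonempty_tensor_quot A P
  obtain ⟨eQ⟩ := nonempty_tensor_quot A Q
  rw [chi_congr eA (((TensorProduct.AlgebraTensorModule.congr (LinearEquiv.refl B' B') e0).trans e1).symm),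
    chi_congr eP.symm eQ.symm]
  refine finsum_congr fun i => ?_
  congr 3
  obtain ⟨φ, hφ⟩ := Groth.Agent.S4494.result (R ⊗[k] R) B' A (Box k R (R ⧸ P) (R ⧸ Q)) i
  obtain ⟨g, hg⟩ := exists_tor_bijective k A hS (R ⧸ P) i (R ⧸ Q)
  obtain ⟨ψ, hψ⟩ := Groth.Agent.S4494.result R A (A ⊗[R] (R ⧸ P)) (R ⧸ Q) i
  let a := (Groth.Agent.H9Misc.TorBalance.torSymm (ModuleCat.of (R ⊗[k] R) A)
    (ModuleCat.of (R ⊗[k] R) (Box k R (R ⧸ P) (R ⧸ Q))) i).toLinearEquiv
  let b := (Groth.Agent.H9Misc.TorBalance.torSymm (ModuleCat.of R (R ⧸ Q))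
    (ModuleCat.of R (A ⊗[R] (R ⧸ P))) i).toLinearEquiv
  let φe := AddEquiv.ofBijective φ.toAddMonoidHom hφ
  let h : DRing.Tor (R ⊗[k] R) i A (Box k R (R ⧸ P) (R ⧸ Q)) →+
      DRing.Tor A i (A ⊗[R] (R ⧸ P)) (A ⊗[R] (R ⧸ Q)) :=
    ψ.toAddMonoidHom.comp (b.toAddEquiv.toAddMonoidHom.comp (g.toAddMonoidHom.comp a.toAddEquiv.toAddMonoidHom))
  have hh : ∀ z, h z = ψ (b (g (a z))) := fun z => rfl
  have hhb : Function.Bijective h := hψ.comp (b.bijective.comp (hg.comp a.bijective))
  have hh_smul : ∀ (r : R ⊗[k] R) z, h (r • z) = ν (algebraMap _ B' r) • h z := fun r z => by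
    rw [hh, hh, map_smul, map_smulₛₗ, map_smul, map_smulₛₗ]
    congr 1
    exact (RingHom.congr_fun hν r).symm
  let F : DRing.Tor B' i A (B' ⊗[R ⊗[k] R] Box k R (R ⧸ P) (R ⧸ Q)) →ₛₗ[ν]
      DRing.Tor A i (A ⊗[R] (R ⧸ P)) (A ⊗[R] (R ⧸ Q)) :=
    { toFun := fun x => h (φe.symm x)
      map_add' := fun x y => by simp
      map_smul' := fun c x => by
        obtain ⟨⟨r, s⟩, hrs⟩ := IsLocalization.surj W c
        have hu : IsUnit (ν (algebraMap _ B' (s : R ⊗[k] R))) := (IsLocalization.map_units B' s).map ν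
        refine hu.smul_left_cancel.1 ?_
        rw [← hh_smul, smul_smul, ← map_mul, mul_comm _ c, hrs, ← hh_smul]
        congr 1
        apply φe.injective
        show φ ((s : R ⊗[k] R) • φe.symm (c • x)) = φ (r • φe.symm x)
        rw [φ.map_smulₛₗ, φ.map_smulₛₗ]
        show _ • φe (φe.symm (c • x)) = _ • φe (φe.symm x)
        rw [φe.apply_symm_apply, φe.apply_symm_apply, smul_smul, mul_comm, hrs] }
  exact length_eq_of_semilinear F (hhb.comp φe.symm.bijective)

end Groth.Agent.TorDiag
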