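import Groth.Agent.TorDiag.Positive
import Groth.Agent.IntMultCartier.Dim
import Groth.Agent.IntMultCartier.Proper
import Groth.Agent.SmoothReg.Scheme
import Mathlib

/-!
# Positivity of intersection multiplicities
-/

set_option autoImplicit false
set_option linter.style.haveILetI false
set_option maxHeartbeats 800000

universe u

open CategoryTheory AlgebraicGeometry TopologicalSpace Order

namespace Groth.Agent.TorDiag

variable {X : Scheme.{u}} (I : X.IdealSheafData) [IsIntegral I.subscheme] (U : X.affineOpens) {x : X}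
  (hx : x ∈ I.support) (hxU : x ∈ (U : X.Opens))

include hx hxU in
theorem isGenericPoint_fromSpec :
    IsGenericPoint (U.2.fromSpec ⟨I.ideal U, IntMultCartier.ideal_isPrime I U hx hxU⟩) (I.support : Set X) := by
  set p : PrimeSpectrum Γ(X, (U : X.Opens)) := ⟨I.ideal U, IntMultCartier.ideal_isPrime I U hx hxU⟩
  have hp : U.2.fromSpec p ∈ (U : X.Opens) := VarDim.fromSpec_mem U.2 p
  have hirr : IsIrreducible (I.support : Set X) := by
    rw [← I.range_subschemeι, ← Set.image_univ]
    exact (IrreducibleSpace.isIrreducible_univ I.subscheme).image _ I.subschemeι.continuous.continuousOn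
  have hη := hirr.isGenericPoint_genericPoint I.support.isClosed
  set η := hirr.genericPoint
  have hpI : U.2.fromSpec p ∈ I.support := (IntMultCartier.fromSpec_mem_support_iff I U p).2 le_rfl
  have hsp : η ⤳ U.2.fromSpec p := hη.specializes hpI
  obtain ⟨q, hq⟩ := VarDim.exists_fromSpec_eq U.2 (hsp.mem_open (U : X.Opens).2 hp)
  rw [← hq, VarDim.fromSpec_specializes_iff U.2 q p] at hsp
  have hqI : I.ideal U ≤ q.asIdeal := (IntMultCartier.fromSpec_mem_support_iff I U q).1 (hq ▸ hη.mem)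
  rw [show p = q from le_antisymm hqI hsp, hq]
  exact hη

variable {k : Type u} [Field k] (f : X ⟶ Spec (CommRingCat.of k)) [LocallyOfFiniteType f]

include f in
theorem dim_quotient_prime (p : PrimeSpectrum Γ(X, (U : X.Opens))) :
    ringKrullDim (Γ(X, (U : X.Opens)) ⧸ p.asIdeal) = ((VarDim.deg f (U.2.fromSpec p) : ℕ) : WithBot ℕ∞) := by
  rw [← VarDim.coheight_eq_ringKrullDim_quotient, VarDim.deg_eq_coheight f U.2 p]
  rfl

include f hx hxU in
theorem dim_quotient_ideal {r : ℕ} (hr : topologicalKrullDim I.support = r) :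
    ringKrullDim (Γ(X, (U : X.Opens)) ⧸ I.ideal U) = (r : WithBot ℕ∞) := by
  have h := dim_quotient_prime U f ⟨I.ideal U, IntMultCartier.ideal_isPrime I U hx hxU⟩
  rwa [IntMultCartier.dim_support f I hr _ (isGenericPoint_fromSpec I U hx hxU)] at h

include f in
theorem dim_sections [IsIntegral X] {n : ℕ} (hn : topologicalKrullDim X = n) {y : X}
    (hy : y ∈ (U : X.Opens)) : ringKrullDim Γ(X, (U : X.Opens)) = (n : WithBot ℕ∞) := by
  haveI : Nonempty (U : X.Opens) := ⟨⟨y, hy⟩⟩
  have h := dim_quotient_prime U f ⟨⊥, Ideal.isPrime_bot⟩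
  rw [ringKrullDim_eq_of_ringEquiv (RingEquiv.quotientBot _)] at h
  have hgen : U.2.fromSpec (⟨⊥, Ideal.isPrime_bot⟩ : PrimeSpectrum Γ(X, (U : X.Opens))) = genericPoint X := by
    rw [← genericPoint_eq_of_isOpenImmersion U.2.fromSpec, genericPoint_eq_bot_of_affine]
    rfl
  rw [hgen] at h
  have h' := IntMultCartier.dim_closure f (genericPoint X)
  rw [genericPoint_closure, ← (Homeomorph.Set.univ X).symm.isHomeomorph.topologicalKrullDim_eq, hn] at h'
  rw [h, ← h']

/-- **Positivity of intersection multiplicities.** -/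
theorem mult_pos {K : Type u} [Field K] [IsAlgClosed K] {X : Scheme.{u}} (f : X ⟶ Spec (CommRingCat.of K))
    [Smooth f] [IsIntegral X] (IV IW : X.IdealSheafData)
    [IsIntegral IV.subscheme] [IsIntegral IW.subscheme] (n r s : ℕ) (hn : topologicalKrullDim X = n)
    (hr : topologicalKrullDim IV.support = r) (hs : topologicalKrullDim IW.support = s)
    (hprop : IntMult.ProperInt (IV.support : Set X) (IW.support : Set X) n r s) {ξ : X}
    (hξV : ξ ∈ IV.support) (hξW : ξ ∈ IW.support)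
    (hmax : ∀ ξ' : X, ξ' ∈ IV.support → ξ' ∈ IW.support → ξ' ⤳ ξ → ξ' = ξ) :
    0 < IntMult.mult IV IW ξ := by
  haveI : IsLocallyNoetherian X := LocallyOfFiniteType.isLocallyNoetherian f
  obtain ⟨W, hW, hxW, -⟩ := exists_isAffineOpen_mem_and_subset (U := (⊤ : X.Opens)) (x := ξ) trivial
  let U : X.affineOpens := ⟨W, hW⟩
  haveI : Nonempty W := ⟨⟨ξ, hxW⟩⟩
  letI : Algebra K Γ(X, W) := (SmoothReg.affMap f W).toAlgebra
  haveI : Algebra.FiniteType K Γ(X, W) := SmoothReg.finiteType_affMap f hW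
  haveI : Algebra.FinitePresentation K Γ(X, W) := Algebra.FinitePresentation.of_finiteType.1 inferInstance
  haveI : Algebra.Smooth K Γ(X, W) := by
    refine ⟨(Algebra.smoothLocus_eq_univ_iff (R := K) (A := Γ(X, W))).1 (Set.eq_univ_of_forall fun q => ?_),
      inferInstance⟩
    have hq := (SmoothReg.mem_smoothLocus_iff_isSmoothAt f hW (VarDim.fromSpec_mem hW q)).1
      (by rw [Scheme.Hom.smoothLocus_eq_top]; trivial)
    have hpeq : hW.primeIdealOf ⟨hW.fromSpec q, VarDim.fromSpec_mem hW q⟩ = q :=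
      hW.fromSpec.isOpenEmbedding.injective (hW.fromSpec_primeIdealOf _)
    rw [hpeq] at hq
    exact hq
  letI := X.presheaf.algebra_section_stalk (U := W) ⟨ξ, hxW⟩
  haveI : IsLocalization.AtPrime (X.presheaf.stalk ξ) (hW.primeIdealOf ⟨ξ, hxW⟩).asIdeal :=
    hW.isLocalization_stalk ⟨ξ, hxW⟩
  haveI := IntMultCartier.ideal_isPrime IV U hξV hxW
  haveI := IntMultCartier.ideal_isPrime IW U hξW hxW
  have h1 : IntMult.stalkIdeal IV ξ = (IV.ideal U).map (algebraMap Γ(X, W) (X.presheaf.stalk ξ)) :=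
    IntMultCartier.stalkIdeal_eq IV U hxW
  have h2 : IntMult.stalkIdeal IW ξ = (IW.ideal U).map (algebraMap Γ(X, W) (X.presheaf.stalk ξ)) :=
    IntMultCartier.stalkIdeal_eq IW U hxW
  obtain ⟨m, hm⟩ := IntMultCartier.exists_pow_le_sup IV IW hmax
  have hd : ringKrullDim (Γ(X, W) ⧸ (hW.primeIdealOf ⟨ξ, hxW⟩).asIdeal) =
      ((VarDim.deg f ξ : ℕ) : WithBot ℕ∞) := by
    have h := dim_quotient_prime U f (hW.primeIdealOf ⟨ξ, hxW⟩)
    rwa [hW.fromSpec_primeIdealOf] at h
  have hle : VarDim.deg f ξ + n ≤ s + r := by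
    obtain ⟨ha, hb⟩ := hprop ⟨ξ, hξV, hξW⟩
    have h3 := (IntMultCartier.dim_closure f ξ).symm.trans_le ((H23.TopDim.dim_le_dim_of_subset
      (closure_minimal (Set.singleton_subset_iff.2 (show ξ ∈ (IV.support : Set X) ∩ IW.support from ⟨hξV, hξW⟩))
        (IV.support.isClosed.inter IW.support.isClosed))).trans hb)
    have h4 : VarDim.deg f ξ ≤ r + s - n := by exact_mod_cast h3
    omega
  unfold IntMult.mult
  rw [h1, h2]
  refine chi_pos K Γ(X, W) (IW.ideal U) (IV.ideal U) (hW.primeIdealOf ⟨ξ, hxW⟩).asIdeal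
    (IntMultCartier.ideal_le_primeIdealOf IW U hxW hξW) (IntMultCartier.ideal_le_primeIdealOf IV U hxW hξV)
    (X.presheaf.stalk ξ) ⟨m, ?_⟩ (dim_sections U f hn hxW) (dim_quotient_ideal IW U hξW hxW f hs)
    (dim_quotient_ideal IV U hξV hxW f hr) hd hle
  rw [← h1, ← h2, sup_comm]
  exact hm

end Groth.Agent.TorDiag
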