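import Groth.Agent.TorDiag.Local
import Groth.Agent.SamuelKoszul.Pos
import Groth.Agent.IntMultCartier.Basic
import Groth.Agent.ModPairLib.Basic
import Groth.Agent.CartierFP.Stalks
import Groth.Agent.SmoothReg.Scheme
import Mathlib

/-!
# Reduction to the diagonal for intersection multiplicities
-/

set_option autoImplicit false
set_option linter.style.haveILetI false
set_option backward.isDefEq.respectTransparency false
set_option backward.isDefEq.respectTransparency.types false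
set_option maxHeartbeats 800000

universe u

open CategoryTheory CategoryTheory.Limits AlgebraicGeometry TensorProduct

namespace Groth.Agent.TorDiag

/-- The stalk ideal of the kernel of a closed immersion. -/
theorem stalkIdeal_ker {Z Y : Scheme.{u}} (g : Z ⟶ Y) [IsClosedImmersion g] (z : Z) :
    IntMult.stalkIdeal g.ker (g z) = RingHom.ker (g.stalkMap z).hom := by
  obtain ⟨W, hW, hzW, -⟩ := exists_isAffineOpen_mem_and_subset (U := (⊤ : Y.Opens)) (x := g z) trivial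
  have key : ∀ (h : Z ⟶ Y), h = g.toImage ≫ g.imageι →
      IntMult.stalkIdeal g.ker (h z) = RingHom.ker (h.stalkMap z).hom := by
    rintro h rfl
    have hd : g.imageι (g.toImage z) ∈ W := by
      have : (g.toImage ≫ g.imageι) z = g z := by rw [g.toImage_imageι]
      rw [Scheme.Hom.comp_apply] at this
      rw [this]; exact hzW
    rw [Scheme.Hom.stalkMap_comp, CommRingCat.hom_comp, RingHom.ker_comp_of_injective _
      (ConcreteCategory.bijective_of_isIso (g.toImage.stalkMap z)).1]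
    exact (IntMultCartier.stalkIdeal_eq g.ker ⟨W, hW⟩ hd).trans
      (CartierFP.ker_stalkMap_subschemeι g.ker ⟨W, hW⟩ (g.toImage z) hd).symm
  exact key g g.toImage_imageι.symm

/-- The ideal of a product of closed subschemes. -/
theorem ker_pullback_map {X Y S V W : Scheme.{u}} (f : X ⟶ S) (g : Y ⟶ S) (i : V ⟶ X) (j : W ⟶ Y)
    [IsClosedImmersion i] [IsClosedImmersion j] :
    (pullback.map (i ≫ f) (j ≫ g) f g i j (𝟙 _) (Category.comp_id _) (Category.comp_id _)).ker =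
      i.ker.comap (pullback.fst f g) ⊔ j.ker.comap (pullback.snd f g) := by
  set m := pullback.map (i ≫ f) (j ≫ g) f g i j (𝟙 _) (Category.comp_id _) (Category.comp_id _)
  refine le_antisymm ?_ (sup_le ?_ ?_)
  · set J := i.ker.comap (pullback.fst f g) ⊔ j.ker.comap (pullback.snd f g) with hJ
    have h1 : i.ker ≤ (J.subschemeι ≫ pullback.fst f g).ker := by
      rw [← Scheme.IdealSheafData.map_ker, J.ker_subschemeι]
      exact Scheme.IdealSheafData.le_map_iff_comap_le.2 (hJ ▸ le_sup_left)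
    have h2 : j.ker ≤ (J.subschemeι ≫ pullback.snd f g).ker := by
      rw [← Scheme.IdealSheafData.map_ker, J.ker_subschemeι]
      exact Scheme.IdealSheafData.le_map_iff_comap_le.2 (hJ ▸ le_sup_right)
    let a := IsClosedImmersion.lift i _ h1
    let b := IsClosedImmersion.lift j _ h2
    have hab : a ≫ i ≫ f = b ≫ j ≫ g := by
      rw [IsClosedImmersion.lift_fac_assoc, IsClosedImmersion.lift_fac_assoc, Category.assoc,
        Category.assoc, pullback.condition]
    have hm : pullback.lift a b hab ≫ m = J.subschemeι := by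
      refine pullback.hom_ext ?_ ?_
      · rw [Category.assoc, pullback.lift_fst, pullback.lift_fst_assoc, IsClosedImmersion.lift_fac]
      · rw [Category.assoc, pullback.lift_snd, pullback.lift_snd_assoc, IsClosedImmersion.lift_fac]
    exact (Scheme.Hom.le_ker_comp (pullback.lift a b hab) m).trans (by rw [hm, J.ker_subschemeι])
  · rw [← Scheme.IdealSheafData.le_map_iff_comap_le, Scheme.IdealSheafData.map_ker, pullback.lift_fst]
    exact Scheme.Hom.le_ker_comp _ _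
  · rw [← Scheme.IdealSheafData.le_map_iff_comap_le, Scheme.IdealSheafData.map_ker, pullback.lift_snd]
    exact Scheme.Hom.le_ker_comp _ _

/-- Germs of pulled back sections. -/
theorem germ_appLE {X Y : Scheme.{u}} (φ : X ⟶ Y) {U : Y.Opens} {V : X.Opens} (e : V ≤ φ ⁻¹ᵁ U) {x : X}
    (hx : x ∈ V) (a : Γ(Y, U)) :
    X.presheaf.germ V x hx (φ.appLE U V e a) = φ.stalkMap x (Y.presheaf.germ U (φ x) (e hx) a) := by
  rw [Scheme.Hom.germ_stalkMap_apply, Scheme.Hom.appLE, CategoryTheory.comp_apply]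
  exact X.presheaf.germ_res_apply _ _ _ _

variable {K : Type u} [Field K] {X : Scheme.{u}} (f : X ⟶ Spec (CommRingCat.of K)) [IsSeparated f]

/-- **Reduction to the diagonal**. -/
theorem mult_eq_mult_diagonal (IV IW : X.IdealSheafData) (ξ : X) :
    IntMult.mult IV IW ξ = IntMult.mult (pullback.map (IV.subschemeι ≫ f) (IW.subschemeι ≫ f) f f
      IV.subschemeι IW.subschemeι (𝟙 _) (Category.comp_id _) (Category.comp_id _)).ker
      (pullback.diagonal f).ker (pullback.diagonal f ξ) := by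
  obtain ⟨U₀, hU, hxU, -⟩ := exists_isAffineOpen_mem_and_subset (U := (⊤ : X.Opens)) (x := ξ) trivial
  let Δ := pullback.diagonal f
  let W : (pullback f f).Opens := pullback.fst f f ⁻¹ᵁ U₀ ⊓ pullback.snd f f ⁻¹ᵁ U₀
  have hW : IsAffineOpen W := by
    haveI : IsAffine (U₀ : Scheme) := hU
    haveI : IsAffine (((⊤ : (Spec (CommRingCat.of K)).Opens)) : Scheme) := isAffineOpen_top _
    exact .of_isIso (Scheme.Hom.isPullback_resLE (IsPullback.of_hasPullback f f) (US := ⊤) le_top le_top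
      (UY := W) rfl).isoPullback.hom
  have hp : IsPushout (f.appLE ⊤ U₀ (by simp)) (f.appLE ⊤ U₀ (by simp))
      ((pullback.fst f f).appLE U₀ W inf_le_left) ((pullback.snd f f).appLE U₀ W inf_le_right) :=
    (isIso_pushoutSection_iff (IsPullback.of_hasPullback f f) le_top le_top rfl).1
      (isIso_pushoutSection_of_isAffineOpen _ _ _ _ (isAffineOpen_top _) hU hU)
  letI : Algebra K Γ(X, U₀) := (SmoothReg.affMap f U₀).toAlgebra
  have hp' : IsPushout (CommRingCat.ofHom (algebraMap K Γ(X, U₀))) (CommRingCat.ofHom (algebraMap K Γ(X, U₀)))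
      ((pullback.fst f f).appLE U₀ W inf_le_left) ((pullback.snd f f).appLE U₀ W inf_le_right) :=
    hp.of_iso (Scheme.ΓSpecIso (CommRingCat.of K)) (Iso.refl _) (Iso.refl _) (Iso.refl _)
      (by ext a; simp [RingHom.algebraMap_toAlgebra, SmoothReg.affMap])
      (by ext a; simp [RingHom.algebraMap_toAlgebra, SmoothReg.affMap]) (by simp) (by simp)
  let E := (CommRingCat.isPushout_tensorProduct K Γ(X, U₀) Γ(X, U₀)).isoIsPushout _ _ hp'
  have hEl : ∀ a : Γ(X, U₀), E.hom (a ⊗ₜ[K] 1) = (pullback.fst f f).appLE U₀ W inf_le_left a := fun a =>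
    congr($((CommRingCat.isPushout_tensorProduct K Γ(X, U₀) Γ(X, U₀)).inl_isoIsPushout_hom _ _ hp') a)
  have hEr : ∀ a : Γ(X, U₀), E.hom (1 ⊗ₜ[K] a) = (pullback.snd f f).appLE U₀ W inf_le_right a := fun a =>
    congr($((CommRingCat.isPushout_tensorProduct K Γ(X, U₀) Γ(X, U₀)).inr_isoIsPushout_hom _ _ hp') a)
  have hΔW : U₀ ≤ Δ ⁻¹ᵁ W := fun x hx => by
    have h1 : pullback.fst f f (Δ x) = x := by rw [← Scheme.Hom.comp_apply, pullback.diagonal_fst]; rfl
    have h2 : pullback.snd f f (Δ x) = x := by rw [← Scheme.Hom.comp_apply, pullback.diagonal_snd]; rfl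
    exact ⟨show pullback.fst f f (Δ x) ∈ U₀ from h1.symm ▸ hx, show pullback.snd f f (Δ x) ∈ U₀ from h2.symm ▸ hx⟩
  let γ := (pullback f f).presheaf.germ W (Δ ξ) (hΔW hxU)
  letI : Algebra (Γ(X, U₀) ⊗[K] Γ(X, U₀)) ((pullback f f).presheaf.stalk (Δ ξ)) :=
    (E.hom ≫ γ).hom.toAlgebra
  letI : Algebra Γ(pullback f f, W) ((pullback f f).presheaf.stalk (Δ ξ)) := γ.hom.toAlgebra
  haveI : IsLocalization.AtPrime ((pullback f f).presheaf.stalk (Δ ξ)) (hW.primeIdealOf ⟨Δ ξ, hΔW hxU⟩).asIdeal :=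
    hW.isLocalization_stalk ⟨Δ ξ, hΔW hxU⟩
  let M : Submonoid (Γ(X, U₀) ⊗[K] Γ(X, U₀)) :=
    (hW.primeIdealOf ⟨Δ ξ, hΔW hxU⟩).asIdeal.primeCompl.map E.commRingCatIsoToRingEquiv.symm.toMonoidHom
  haveI : IsLocalization M ((pullback f f).presheaf.stalk (Δ ξ)) := by
    have h := IsLocalization.isLocalization_of_base_ringEquiv (hW.primeIdealOf ⟨Δ ξ, hΔW hxU⟩).asIdeal.primeCompl
      ((pullback f f).presheaf.stalk (Δ ξ)) E.commRingCatIsoToRingEquiv.symm
    convert h using 2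
    all_goals rfl
  letI := X.presheaf.algebra_section_stalk (U := U₀) ⟨ξ, hxU⟩
  haveI : IsLocalization.AtPrime (X.presheaf.stalk ξ) (hU.primeIdealOf ⟨ξ, hxU⟩).asIdeal :=
    hU.isLocalization_stalk ⟨ξ, hxU⟩
  haveI : Module.Flat Γ(X, U₀) (X.presheaf.stalk ξ) :=
    IsLocalization.flat _ (hU.primeIdealOf ⟨ξ, hxU⟩).asIdeal.primeCompl
  have hν : (Δ.stalkMap ξ).hom.comp (algebraMap (Γ(X, U₀) ⊗[K] Γ(X, U₀)) ((pullback f f).presheaf.stalk (Δ ξ))) =
      (algebraMap Γ(X, U₀) (X.presheaf.stalk ξ)).comp (mu K Γ(X, U₀)) := by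
    refine RingHom.ext fun b => ?_
    induction b with
    | zero => simp
    | add b b' hb hb' => rw [map_add, map_add, hb, hb']
    | tmul a c =>
      have hl : Δ.stalkMap ξ (γ (E.hom (a ⊗ₜ[K] 1))) = X.presheaf.germ U₀ ξ hxU a := by
        rw [hEl, ← germ_appLE Δ hΔW hxU]
        refine congrArg (X.presheaf.germ U₀ ξ hxU) ?_
        rw [← CategoryTheory.comp_apply, Scheme.Hom.appLE_comp_appLE]
        simp only [pullback.diagonal_fst, Δ]
        simp [Scheme.Hom.appLE]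
        exact congr($(X.presheaf.map_id (Opposite.op U₀)).hom _)
      have hr : Δ.stalkMap ξ (γ (E.hom (1 ⊗ₜ[K] c))) = X.presheaf.germ U₀ ξ hxU c := by
        rw [hEr, ← germ_appLE Δ hΔW hxU]
        refine congrArg (X.presheaf.germ U₀ ξ hxU) ?_
        rw [← CategoryTheory.comp_apply, Scheme.Hom.appLE_comp_appLE]
        simp only [pullback.diagonal_snd, Δ]
        simp [Scheme.Hom.appLE]
        exact congr($(X.presheaf.map_id (Opposite.op U₀)).hom _)
      show (Δ.stalkMap ξ).hom (γ.hom (E.hom.hom (a ⊗ₜ[K] c))) = X.presheaf.germ U₀ ξ hxU (mu K Γ(X, U₀) (a ⊗ₜ[K] c))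
      rw [show a ⊗ₜ[K] c = (a ⊗ₜ[K] 1) * (1 ⊗ₜ[K] c) by simp, map_mul, map_mul, map_mul, map_mul, map_mul]
      rw [show mu K Γ(X, U₀) (a ⊗ₜ[K] 1) = a by simp [mu], show mu K Γ(X, U₀) (1 ⊗ₜ[K] c) = c by simp [mu]]
      exact congrArg₂ (· * ·) hl hr
  have hV : IntMult.stalkIdeal IV ξ = (IV.ideal ⟨U₀, hU⟩).map (algebraMap Γ(X, U₀) (X.presheaf.stalk ξ)) :=
    IntMultCartier.stalkIdeal_eq IV ⟨U₀, hU⟩ hxU
  have hW' : IntMult.stalkIdeal IW ξ = (IW.ideal ⟨U₀, hU⟩).map (algebraMap Γ(X, U₀) (X.presheaf.stalk ξ)) :=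
    IntMultCartier.stalkIdeal_eq IW ⟨U₀, hU⟩ hxU
  have hD : IntMult.stalkIdeal Δ.ker (Δ ξ) = RingHom.ker (Δ.stalkMap ξ).hom := stalkIdeal_ker Δ ξ
  have hI : IntMult.stalkIdeal (pullback.map (IV.subschemeι ≫ f) (IW.subschemeι ≫ f) f f
      IV.subschemeι IW.subschemeι (𝟙 _) (Category.comp_id _) (Category.comp_id _)).ker (Δ ξ) =
      (prodIdeal K Γ(X, U₀) (IV.ideal ⟨U₀, hU⟩) (IW.ideal ⟨U₀, hU⟩)).map
        (algebraMap (Γ(X, U₀) ⊗[K] Γ(X, U₀)) ((pullback f f).presheaf.stalk (Δ ξ))) := by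
    rw [ker_pullback_map, IV.ker_subschemeι, IW.ker_subschemeι,
      IntMultCartier.stalkIdeal_eq _ ⟨W, hW⟩ (hΔW hxU), Scheme.IdealSheafData.ideal_sup, Pi.sup_apply,
      ModPairLib.ideal_comap IV _ ⟨U₀, hU⟩ ⟨W, hW⟩ inf_le_left,
      ModPairLib.ideal_comap IW _ ⟨U₀, hU⟩ ⟨W, hW⟩ inf_le_right]
    have he : prodIdeal K Γ(X, U₀) (IV.ideal ⟨U₀, hU⟩) (IW.ideal ⟨U₀, hU⟩) =
        (IV.ideal ⟨U₀, hU⟩).map ((Algebra.TensorProduct.includeLeft : _ →ₐ[K] Γ(X, U₀) ⊗[K] Γ(X, U₀)) : _ →+* _) ⊔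
          (IW.ideal ⟨U₀, hU⟩).map ((Algebra.TensorProduct.includeRight : _ →ₐ[K] Γ(X, U₀) ⊗[K] Γ(X, U₀)) : _ →+* _) := rfl
    rw [he, Ideal.map_sup, Ideal.map_sup, Ideal.map_map, Ideal.map_map, Ideal.map_map, Ideal.map_map]
    refine congrArg₂ (fun φ ψ => Ideal.map φ (IV.ideal ⟨U₀, hU⟩) ⊔ Ideal.map ψ (IW.ideal ⟨U₀, hU⟩))
      (RingHom.ext fun a => ?_) (RingHom.ext fun a => ?_)
    · exact congrArg γ (hEl a).symm
    · exact congrArg γ (hEr a).symm
  unfold IntMult.mult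
  rw [hV, hW', hD, hI, SamuelKoszul.chi_comm]
  exact (chi_eq K Γ(X, U₀) _ _ M (Δ.stalkMap ξ).hom hν (Δ.stalkMap_surjective ξ)).symm

end Groth.Agent.TorDiag
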