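import Groth.Agent.TorDiag.Diagonal
import Mathlib

/-! The scheme-theoretic image of a product of morphisms over a field. -/

set_option linter.style.haveILetI false
set_option linter.unusedSectionVars false
set_option backward.isDefEq.respectTransparency false
set_option backward.isDefEq.respectTransparency.types false

universe u

open CategoryTheory CategoryTheory.Limits AlgebraicGeometry

namespace Groth.Agent.TorDiag

theorem isSchemeTheoreticallyDominant_toImage {X Y : Scheme.{u}} (f : X ⟶ Y) [QuasiCompact f] :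
    IsSchemeTheoreticallyDominant f.toImage := by
  refine ⟨Scheme.IdealSheafData.ext (funext fun U => ?_)⟩
  rw [Scheme.IdealSheafData.ideal_bot, Pi.bot_apply, eq_bot_iff]
  refine (f.toImage.ideal_ker_le U).trans fun s hs => ?_
  rw [Ideal.mem_bot]
  refine TopCat.Presheaf.section_ext f.image.sheaf _ _ _ fun w hw => ?_
  refine Scheme.Hom.stalkFunctor_toImage_injective f w ?_
  erw [TopCat.Presheaf.stalkFunctor_map_germ_apply, TopCat.Presheaf.stalkFunctor_map_germ_apply]
  exact congrArg _ ((RingHom.mem_ker.mp hs).trans (map_zero _).symm)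

/-- Flat base change keeps morphisms scheme-theoretically dominant. -/
theorem ker_eq_bot_of_isPullback {P A Z Q : Scheme.{u}} {p : P ⟶ A} {a : P ⟶ Q} {t : A ⟶ Z} {q : Q ⟶ Z}
    (h : IsPullback p a t q) [QuasiCompact t] [IsSchemeTheoreticallyDominant t] [Flat q] : a.ker = ⊥ := by
  haveI : IsSchemeTheoreticallyDominant (pullback.snd t q) := inferInstance
  rw [← h.isoPullback_hom_snd, Scheme.Hom.ker_comp_of_isIso]
  exact Scheme.Hom.ker_eq_bot _

/-- The ideal of the image of a product over a field. -/
theorem ker_productMap {k : Type u} [Field k] {X Y A B : Scheme.{u}} (sX : X ⟶ Spec (CommRingCat.of k))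
    (sY : Y ⟶ Spec (CommRingCat.of k)) (sA : A ⟶ Spec (CommRingCat.of k)) (sB : B ⟶ Spec (CommRingCat.of k))
    (f : A ⟶ X) (g : B ⟶ Y) [QuasiCompact f] [QuasiCompact g] (hf : f ≫ sX = sA) (hg : g ≫ sY = sB)
    (F : pullback sA sB ⟶ pullback sX sY) (h₁ : F ≫ pullback.fst sX sY = pullback.fst sA sB ≫ f)
    (h₂ : F ≫ pullback.snd sX sY = pullback.snd sA sB ≫ g) :
    F.ker = f.ker.comap (pullback.fst sX sY) ⊔ g.ker.comap (pullback.snd sX sY) := by
  have hflat : ∀ {W : Scheme.{u}} (s : W ⟶ Spec (CommRingCat.of k)), Flat s := fun s => inferInstance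
  haveI := isSchemeTheoreticallyDominant_toImage f
  haveI := isSchemeTheoreticallyDominant_toImage g
  let tX := f.imageι ≫ sX
  let tY := g.imageι ≫ sY
  have hA : f.toImage ≫ tX = sA := by rw [Scheme.Hom.toImage_imageι_assoc, hf]
  have hB : g.toImage ≫ tY = sB := by rw [Scheme.Hom.toImage_imageι_assoc, hg]
  let a₁ : pullback sA sB ⟶ pullback tX sB :=
    pullback.map sA sB tX sB f.toImage (𝟙 _) (𝟙 _) (by rw [hA, Category.comp_id]) (by simp)
  let a₂ : pullback tX sB ⟶ pullback tX tY :=
    pullback.map tX sB tX tY (𝟙 _) g.toImage (𝟙 _) (by simp) (by rw [hB, Category.comp_id])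
  let m : pullback tX tY ⟶ pullback sX sY :=
    pullback.map tX tY sX sY f.imageι g.imageι (𝟙 _) (Category.comp_id _) (Category.comp_id _)
  have hP₁ : IsPullback (pullback.fst sA sB) a₁ f.toImage (pullback.fst tX sB) := by
    refine IsPullback.of_bot ?_ (by simp [a₁, pullback.map]) (IsPullback.of_hasPullback tX sB)
    rw [hA, show a₁ ≫ pullback.snd tX sB = pullback.snd sA sB by simp [a₁, pullback.map]]
    exact IsPullback.of_hasPullback sA sB
  have hP₂ : IsPullback (pullback.snd tX sB) a₂ g.toImage (pullback.snd tX tY) := by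
    refine IsPullback.of_bot ?_ (by simp [a₂, pullback.map]) (IsPullback.of_hasPullback tX tY).flip
    rw [hB, show a₂ ≫ pullback.fst tX tY = pullback.fst tX sB by simp [a₂, pullback.map]]
    exact (IsPullback.of_hasPullback tX sB).flip
  haveI : Flat (pullback.fst tX sB) := by haveI := hflat sB; infer_instance
  haveI : Flat (pullback.snd tX tY) := by haveI := hflat tX; infer_instance
  haveI : QuasiCompact f.toImage := inferInstance
  haveI : QuasiCompact g.toImage := inferInstance
  have e : F = a₁ ≫ a₂ ≫ m := by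
    apply pullback.hom_ext
    · rw [h₁]; simp [a₁, a₂, m, pullback.map]
    · rw [h₂]; simp [a₁, a₂, m, pullback.map]
  haveI : IsClosedImmersion f.imageι := inferInstance
  haveI : IsClosedImmersion g.imageι := inferInstance
  rw [e, Scheme.Hom.ker_comp, ker_eq_bot_of_isPullback hP₁, Scheme.IdealSheafData.map_bot, Scheme.Hom.ker_comp,
    ker_eq_bot_of_isPullback hP₂, Scheme.IdealSheafData.map_bot]
  refine (ker_pullback_map sX sY f.imageι g.imageι).trans ?_
  simp [Scheme.Hom.imageι]

end Groth.Agent.TorDiag
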