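import Mathlib

/-!
# The external product of two modules
-/

set_option autoImplicit false
set_option linter.style.haveILetI false

universe u

open TensorProduct

namespace Groth.Agent.TorDiag

variable (k : Type u) [Field k] (R : Type u) [CommRing R] [Algebra k R]
variable (M N : Type u) [AddCommGroup M] [Module k M] [Module R M] [IsScalarTower k R M]
  [AddCommGroup N] [Module k N] [Module R N] [IsScalarTower k R N]

/-- `M ⊠ N`: the `k`-tensor product, as a module over `R ⊗[k] R`. -/
def Box : Type u :=
  have _ : CommRing R := inferInstance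
  M ⊗[k] N

noncomputable instance : AddCommGroup (Box k R M N) := inferInstanceAs (AddCommGroup (M ⊗[k] N))

/-- The action of `R ⊗[k] R` on `M ⊗[k] N`. -/
noncomputable def act : (R ⊗[k] R) →ₐ[k] Module.End k (M ⊗[k] N) :=
  (Module.endTensorEndAlgHom (R := k) (S := k) (A := k) (M := M) (N := N)).comp
    (Algebra.TensorProduct.map (Algebra.lsmul k k M) (Algebra.lsmul k k N))

noncomputable instance : Module (R ⊗[k] R) (Box k R M N) :=
  letI : Module (R ⊗[k] R) (M ⊗[k] N) := Module.compHom _ (act k R M N).toRingHom
  inferInstanceAs (Module (R ⊗[k] R) (M ⊗[k] N))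

/-- The identity, from the tensor product. -/
noncomputable def ofTensor : M ⊗[k] N ≃+ Box k R M N := AddEquiv.refl _

noncomputable instance : Module R (Box k R M N) := Module.compHom _ (algebraMap R (R ⊗[k] R))

instance : IsScalarTower R (R ⊗[k] R) (Box k R M N) :=
  IsScalarTower.of_algebraMap_smul fun _ _ => rfl

variable {M N}

theorem smul_ofTensor (b : R ⊗[k] R) (x : M ⊗[k] N) :
    b • ofTensor k R M N x = ofTensor k R M N (act k R M N b x) := rfl

theorem act_tmul (a c : R) (m : M) (n : N) :
    act k R M N (a ⊗ₜ[k] c) (m ⊗ₜ[k] n) = (a • m) ⊗ₜ[k] (c • n) := rfl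

theorem smul_tmul_ofTensor (a c : R) (m : M) (n : N) :
    (a ⊗ₜ[k] c) • ofTensor k R M N (m ⊗ₜ[k] n) = ofTensor k R M N ((a • m) ⊗ₜ[k] (c • n)) := rfl

variable {N' : Type u} [AddCommGroup N'] [Module k N'] [Module R N'] [IsScalarTower k R N']

/-- Functoriality in the second variable. -/
noncomputable def boxMap (f : N →ₗ[R] N') : Box k R M N →ₗ[R ⊗[k] R] Box k R M N' where
  toFun x := ofTensor k R M N' ((f.restrictScalars k).lTensor M ((ofTensor k R M N).symm x))
  map_add' x y := by simp
  map_smul' b x := by
    obtain ⟨z, rfl⟩ := (ofTensor k R M N).surjective x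
    rw [RingHom.id_apply, smul_ofTensor, AddEquiv.symm_apply_apply, AddEquiv.symm_apply_apply,
      smul_ofTensor]
    congr 1
    induction b with
    | zero => simp
    | add b b' hb hb' =>
      rw [map_add, map_add, LinearMap.add_apply, LinearMap.add_apply, map_add, hb, hb']
    | tmul a c =>
      induction z with
      | zero => simp
      | add z z' hz hz' => simp only [map_add, hz, hz']
      | tmul m n => simp [act_tmul]

theorem boxMap_ofTensor (f : N →ₗ[R] N') (x : M ⊗[k] N) :
    boxMap k R f (ofTensor k R M N x) = ofTensor k R M N' ((f.restrictScalars k).lTensor M x) := by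
  simp [boxMap]

theorem boxMap_injective (f : N →ₗ[R] N') (hf : Function.Injective f) :
    Function.Injective (boxMap k R (M := M) f) := fun x y h => by
  obtain ⟨x, rfl⟩ := (ofTensor k R M N).surjective x
  obtain ⟨y, rfl⟩ := (ofTensor k R M N).surjective y
  rw [boxMap_ofTensor, boxMap_ofTensor] at h
  exact congrArg _ (Module.Flat.lTensor_preserves_injective_linearMap (M := M) (f.restrictScalars k) hf
    ((ofTensor k R M N').injective h))

theorem boxMap_surjective (f : N →ₗ[R] N') (hf : Function.Surjective f) :
    Function.Surjective (boxMap k R (M := M) f) := fun y => by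
  obtain ⟨y, rfl⟩ := (ofTensor k R M N').surjective y
  obtain ⟨x, rfl⟩ := LinearMap.lTensor_surjective M (g := f.restrictScalars k) hf y
  exact ⟨ofTensor k R M N x, boxMap_ofTensor k R f x⟩

theorem boxMap_exact {N'' : Type u} [AddCommGroup N''] [Module k N''] [Module R N''] [IsScalarTower k R N'']
    (f : N →ₗ[R] N') (g : N' →ₗ[R] N'') (h : Function.Exact f g) (hg : Function.Surjective g) :
    Function.Exact (boxMap k R (M := M) f) (boxMap k R (M := M) g) := by
  have h' := lTensor_exact M (f := f.restrictScalars k) (g := g.restrictScalars k) h hg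
  intro y
  obtain ⟨y, rfl⟩ := (ofTensor k R M N').surjective y
  rw [boxMap_ofTensor, AddEquiv.map_eq_zero_iff, h' y]
  constructor
  · rintro ⟨x, rfl⟩
    exact ⟨_, boxMap_ofTensor k R f x⟩
  · rintro ⟨x, hx⟩
    obtain ⟨x, rfl⟩ := (ofTensor k R M N).surjective x
    rw [boxMap_ofTensor] at hx
    exact ⟨x, (ofTensor k R M N').injective hx⟩

section Free

variable (M) (V : Type u) [AddCommGroup V] [Module k V]

/-- `B ⊗_{R} (M ⊗ V) → M ⊠ (R ⊗ V)`. -/
noncomputable def freeMap : (R ⊗[k] R) ⊗[R] (M ⊗[k] V) →ₗ[R ⊗[k] R] Box k R M (R ⊗[k] V) :=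
  TensorProduct.AlgebraTensorModule.lift
    { toFun := fun b =>
        { toFun := fun x => b • ofTensor k R M (R ⊗[k] V) (((TensorProduct.mk k R V) 1).lTensor M x)
          map_add' := fun x y => by simp only [map_add, smul_add]
          map_smul' := fun r x => by
            rw [RingHom.id_apply, ← algebraMap_smul (R ⊗[k] R) r (b • _), smul_smul, mul_comm _ b,
              ← smul_smul, Algebra.TensorProduct.algebraMap_apply, Algebra.algebraMap_self, RingHom.id_apply]
            congr 1
            induction x with
            | zero => simp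
            | add x y hx hy => simp only [smul_add, map_add, hx, hy]
            | tmul m v =>
              rw [TensorProduct.smul_tmul', LinearMap.lTensor_tmul, LinearMap.lTensor_tmul,
                smul_tmul_ofTensor, one_smul] }
      map_add' := fun b b' => LinearMap.ext fun x => add_smul b b' _
      map_smul' := fun c b => LinearMap.ext fun x => mul_smul c b _ }

theorem freeMap_tmul (a c : R) (m : M) (v : V) :
    freeMap k R M V ((a ⊗ₜ[k] c) ⊗ₜ[R] (m ⊗ₜ[k] v)) =
      ofTensor k R M (R ⊗[k] V) ((a • m) ⊗ₜ[k] (c ⊗ₜ[k] v)) := by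
  show (a ⊗ₜ[k] c) • ofTensor k R M (R ⊗[k] V) (((TensorProduct.mk k R V) 1).lTensor M (m ⊗ₜ[k] v)) = _
  rw [LinearMap.lTensor_tmul, TensorProduct.mk_apply, smul_tmul_ofTensor, TensorProduct.smul_tmul',
    smul_eq_mul, mul_one]

/-- The inverse of `freeMap`. -/
noncomputable def freeInv : M ⊗[k] (R ⊗[k] V) →ₗ[k] (R ⊗[k] R) ⊗[R] (M ⊗[k] V) :=
  TensorProduct.lift <| LinearMap.mk₂ k
    (fun m y => (TensorProduct.map (TensorProduct.mk k R R 1) (TensorProduct.mk k M V m) y : (R ⊗[k] R) ⊗[k] (M ⊗[k] V)))
    (fun m m' y => by simp [TensorProduct.map_add_right]) (fun c m y => by simp [TensorProduct.map_smul_right])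
    (fun m y y' => by simp) (fun c m y => by simp) |>.compr₂ₛₗ (TensorProduct.mapOfCompatibleSMul R k k _ _)

theorem freeInv_tmul (m : M) (c : R) (v : V) :
    freeInv k R M V (m ⊗ₜ[k] (c ⊗ₜ[k] v)) = ((1 : R) ⊗ₜ[k] c) ⊗ₜ[R] (m ⊗ₜ[k] v) := rfl

theorem freeMap_bijective : Function.Bijective (freeMap k R M V) := by
  refine ⟨Function.LeftInverse.injective (g := fun z => freeInv k R M V ((ofTensor k R M _).symm z)) ?_, ?_⟩
  · intro y
    induction y with
    | zero => simp
    | add y y' hy hy' => simp only [map_add] at hy hy' ⊢; rw [hy, hy']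
    | tmul b x =>
      induction x with
      | zero => simp
      | add x x' hx hx' => simp only [TensorProduct.tmul_add, map_add] at hx hx' ⊢; rw [hx, hx']
      | tmul m v =>
        induction b with
        | zero => simp
        | add b b' hb hb' => simp only [TensorProduct.add_tmul, map_add] at hb hb' ⊢; rw [hb, hb']
        | tmul a c =>
          rw [freeMap_tmul]
          beta_reduce
          rw [AddEquiv.symm_apply_apply, freeInv_tmul, show (a ⊗ₜ[k] c) = a • ((1 : R) ⊗ₜ[k] c) by
              rw [TensorProduct.smul_tmul', smul_eq_mul, mul_one],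
            TensorProduct.smul_tmul a ((1 : R) ⊗ₜ[k] c), TensorProduct.smul_tmul']
  · intro z
    refine ⟨freeInv k R M V ((ofTensor k R M _).symm z), ?_⟩
    obtain ⟨x, rfl⟩ := (ofTensor k R M _).surjective z
    rw [AddEquiv.symm_apply_apply]
    induction x with
    | zero => simp
    | add x x' hx hx' => simp only [map_add, hx, hx']
    | tmul m y =>
      induction y with
      | zero => simp
      | add y y' hy hy' => simp only [TensorProduct.tmul_add, map_add, hy, hy']
      | tmul c v => rw [freeInv_tmul, freeMap_tmul, one_smul]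

end Free

end Groth.Agent.TorDiag
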