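import Groth.Agent.TorBridge.KerNat
import Groth.Agent.TorBridge.Shift
import Groth.Prelude.Def_DRing2
import Mathlib

/-!
# Dimension shifting for `Tor` through acyclic modules
-/

set_option backward.isDefEq.respectTransparency false
set_option backward.isDefEq.respectTransparency.types false
set_option linter.style.haveILetI false

universe u

open CategoryTheory Limits TensorProduct Groth.Agent.TorBridge

namespace Groth.Agent.TorDiag

variable {R : Type u} [CommRing R]

/-- `Tor_{i+2}(X₃) ≅ Tor_{i+1}(X₁)` when the higher `Tor` of `X₂` vanish. -/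
theorem nonempty_tor_succ_iso (S : ShortComplex (ModuleCat.{u} R)) (hS : S.ShortExact)
    (Y : ModuleCat.{u} R) (hz : ∀ j : ℕ, IsZero (((Tor (ModuleCat.{u} R) (j + 1)).obj S.X₂).obj Y)) (i : ℕ) :
    Nonempty (((Tor (ModuleCat.{u} R) (i + 2)).obj S.X₃).obj Y ≅
      ((Tor (ModuleCat.{u} R) (i + 1)).obj S.X₁).obj Y) := by
  let Q := projectiveResolution Y
  have hz' : ∀ j : ℕ, IsZero ((KerNat.seq S Q).X₂.homology (j + 1)) := fun j =>
    (hz j).of_iso (Q.isoLeftDerivedObj (KerNat.ten S.X₂) (j + 1)).symm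
  exact ⟨Q.isoLeftDerivedObj (KerNat.ten S.X₃) (i + 2) ≪≫
    (KerNat.seq_shortExact hS Q).δIso (i + 2) (i + 1) rfl (hz' (i + 1)) (hz' i) ≪≫
    (Q.isoLeftDerivedObj (KerNat.ten S.X₁) (i + 1)).symm⟩

theorem θ_injective {S : ShortComplex (ModuleCat.{u} R)} (hS : S.ShortExact) (Y : ModuleCat.{u} R)
    (hz : IsZero (((Tor (ModuleCat.{u} R) 1).obj S.X₂).obj Y)) :
    Function.Injective (KerNat.θ hS Y).hom := by
  rw [← ModuleCat.mono_iff_injective]
  let Q := projectiveResolution Y
  haveI : Mono ((KerNat.seq_shortExact hS Q).δ 1 0 rfl) := by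
    refine ((KerNat.seq_shortExact hS Q).homology_exact₃ 1 0 rfl).mono_g ?_
    exact IsZero.eq_of_src (hz.of_iso (Q.isoLeftDerivedObj (KerNat.ten S.X₂) 1).symm) _ _
  haveI : Mono ((KerNat.seq_shortExact hS Q).δ 1 0 rfl ≫ KerNat.h0 S.X₁ Q) :=
    @mono_comp _ _ _ _ _ _ inferInstance _ (@IsIso.mono_of_iso _ _ _ _ _ (KerNat.isIso_h0 S.X₁ Q))
  exact @mono_comp _ _ _ _ _ _ inferInstance _ this

/-- The short complex of two linear maps. -/
noncomputable def mkSC {A B C : Type u} [AddCommGroup A] [Module R A] [AddCommGroup B] [Module R B]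
    [AddCommGroup C] [Module R C] (f : A →ₗ[R] B) (g : B →ₗ[R] C) (h : Function.Exact f g) :
    ShortComplex (ModuleCat.{u} R) :=
  ShortComplex.mk (ModuleCat.ofHom f) (ModuleCat.ofHom g)
    (ModuleCat.hom_ext (LinearMap.ext fun x => h.apply_apply_eq_zero x))

variable {A B C : Type u} [AddCommGroup A] [Module R A] [AddCommGroup B] [Module R B]
  [AddCommGroup C] [Module R C] {f : A →ₗ[R] B} {g : B →ₗ[R] C}

theorem shortExact_mkSC (h : Function.Exact f g) (hf : Function.Injective f) (hg : Function.Surjective g) :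
    (mkSC f g h).ShortExact :=
  { exact := (ShortComplex.ShortExact.moduleCat_exact_iff_function_exact _).2 h
    mono_f := (ModuleCat.mono_iff_injective _).2 hf
    epi_g := (ModuleCat.epi_iff_surjective _).2 hg }

/-- `Tor₁` of the cokernel of a map to an acyclic module. -/
theorem nonempty_tor_one (h : Function.Exact f g) (hf : Function.Injective f) (hg : Function.Surjective g)
    (Y : Type u) [AddCommGroup Y] [Module R Y] (hz : Subsingleton (DRing.Tor R 1 B Y)) :
    Nonempty (DRing.Tor R 1 C Y ≃ₗ[R] LinearMap.ker (f.rTensor Y)) :=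
  ⟨(LinearEquiv.ofInjective (KerNat.θ (shortExact_mkSC h hf hg) (ModuleCat.of R Y)).hom
    (θ_injective (shortExact_mkSC h hf hg) _ (@ModuleCat.isZero_of_subsingleton _ _ _ hz))).trans
    (LinearEquiv.ofEq _ (LinearMap.ker (f.rTensor Y))
      (LinearMap.exact_iff.1 (KerNat.θ_range (shortExact_mkSC h hf hg) (ModuleCat.of R Y))).symm)⟩

/-- Shifting degrees. -/
theorem nonempty_tor_add_two (h : Function.Exact f g) (hf : Function.Injective f) (hg : Function.Surjective g)
    (Y : Type u) [AddCommGroup Y] [Module R Y] (hz : ∀ j, Subsingleton (DRing.Tor R (j + 1) B Y)) (i : ℕ) :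
    Nonempty (DRing.Tor R (i + 2) C Y ≃ₗ[R] DRing.Tor R (i + 1) A Y) :=
  ⟨(nonempty_tor_succ_iso (mkSC f g h) (shortExact_mkSC h hf hg) (ModuleCat.of R Y)
    (fun j => @ModuleCat.isZero_of_subsingleton _ _ _ (hz j)) i).some.toLinearEquiv⟩

/-- `Tor₀` is the tensor product. -/
theorem nonempty_tor_zero (X Y : Type u) [AddCommGroup X] [Module R X] [AddCommGroup Y] [Module R Y] :
    Nonempty (DRing.Tor R 0 X Y ≃ₗ[R] X ⊗[R] Y) := by
  let Q := projectiveResolution (ModuleCat.of R Y)
  haveI := KerNat.isIso_h0 (ModuleCat.of R X) Q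
  exact ⟨((Q.isoLeftDerivedObj (KerNat.ten (ModuleCat.of R X)) 0) ≪≫
    asIso (KerNat.h0 (ModuleCat.of R X) Q)).toLinearEquiv⟩

end Groth.Agent.TorDiag
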