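import Groth.Agent.TorDiag.Box
import Groth.Agent.TorDiag.Shift
import Groth.Agent.S4494
import Groth.Agent.S3527
import Mathlib

/-!
# Reduction to the diagonal for `Tor`
-/

set_option autoImplicit false
set_option linter.style.haveILetI false
set_option backward.isDefEq.respectTransparency false
set_option backward.isDefEq.respectTransparency.types false
set_option maxHeartbeats 800000

universe u

open CategoryTheory TensorProduct

namespace Groth.Agent.TorDiag

variable (k : Type u) [Field k] (R : Type u) [CommRing R] [Algebra k R]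

/-- Multiplication. -/
noncomputable abbrev mu : R ⊗[k] R →+* R := (Algebra.TensorProduct.lmul' k (S := R)).toRingHom

instance : RingHomSurjective (mu k R) :=
  ⟨fun r => ⟨r ⊗ₜ[k] 1, by simp [mu]⟩⟩

variable {R} (S : Type u) [AddCommGroup S] [Module R S] [Module (R ⊗[k] R) S]
  (hS : ∀ (b : R ⊗[k] R) (s : S), b • s = mu k R b • s)
  (M : Type u) [AddCommGroup M] [Module k M] [Module R M] [IsScalarTower k R M]

section Eta

variable (N : Type u) [AddCommGroup N] [Module k N] [Module R N] [IsScalarTower k R N]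

/-- `m ⊗ n ↦ s ↦ n ⊗ (s ⊗ m)`. -/
noncomputable def fwdAux (s : S) : M ⊗[k] N →+ N ⊗[R] (S ⊗[R] M) :=
  TensorProduct.liftAddHom
    { toFun := fun m =>
        { toFun := fun n => n ⊗ₜ[R] (s ⊗ₜ[R] m)
          map_zero' := TensorProduct.zero_tmul _ _
          map_add' := fun n n' => TensorProduct.add_tmul _ _ _ }
      map_zero' := by ext n; simp
      map_add' := fun m m' => by ext n; simp [TensorProduct.tmul_add] }
    (fun c m n => by
      show n ⊗ₜ[R] (s ⊗ₜ[R] (c • m)) = (c • n) ⊗ₜ[R] (s ⊗ₜ[R] m)
      rw [← algebraMap_smul R c m, ← algebraMap_smul R c n, TensorProduct.tmul_smul,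
        TensorProduct.tmul_smul, TensorProduct.smul_tmul'])

theorem fwdAux_tmul (s : S) (m : M) (n : N) :
    fwdAux k S M N s (m ⊗ₜ[k] n) = n ⊗ₜ[R] (s ⊗ₜ[R] m) := rfl

/-- The comparison map in degree zero. -/
noncomputable def fwdAdd : Box k R M N ⊗[R ⊗[k] R] S →+ N ⊗[R] (S ⊗[R] M) :=
  TensorProduct.liftAddHom
    { toFun := fun x =>
        { toFun := fun s => fwdAux k S M N s ((ofTensor k R M N).symm x)
          map_zero' := by
            obtain ⟨x, rfl⟩ := (ofTensor k R M N).surjective x
            rw [AddEquiv.symm_apply_apply]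
            induction x with
            | zero => simp
            | add x y hx hy => rw [map_add, hx, hy, add_zero]
            | tmul m n => simp [fwdAux_tmul]
          map_add' := fun s s' => by
            obtain ⟨x, rfl⟩ := (ofTensor k R M N).surjective x
            rw [AddEquiv.symm_apply_apply]
            induction x with
            | zero => simp
            | add x y hx hy => rw [map_add, map_add, map_add, hx, hy]; abel
            | tmul m n => simp [fwdAux_tmul, TensorProduct.add_tmul, TensorProduct.tmul_add] }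
      map_zero' := by ext s; simp
      map_add' := fun x y => by ext s; simp }
    (fun b x s => by
      obtain ⟨x, rfl⟩ := (ofTensor k R M N).surjective x
      show fwdAux k S M N s ((ofTensor k R M N).symm (b • ofTensor k R M N x)) =
        fwdAux k S M N (b • s) ((ofTensor k R M N).symm (ofTensor k R M N x))
      rw [smul_ofTensor, AddEquiv.symm_apply_apply, AddEquiv.symm_apply_apply, hS]
      induction x with
      | zero => simp
      | add x y hx hy => rw [map_add, map_add, map_add, hx, hy]
      | tmul m n =>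
        induction b with
        | zero => simp [fwdAux_tmul]
        | add b b' hb hb' =>
          rw [map_add, LinearMap.add_apply, map_add, hb, hb', map_add, fwdAux_tmul, fwdAux_tmul, fwdAux_tmul,
            add_smul, TensorProduct.add_tmul, TensorProduct.tmul_add]
        | tmul a c =>
          rw [act_tmul, fwdAux_tmul, fwdAux_tmul]
          simp only [mu, AlgHom.toRingHom_eq_coe, RingHom.coe_coe, Algebra.TensorProduct.lmul'_apply_tmul]
          rw [TensorProduct.tmul_smul, TensorProduct.tmul_smul, TensorProduct.smul_tmul, mul_comm, mul_smul,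
            ← TensorProduct.smul_tmul', ← TensorProduct.smul_tmul', TensorProduct.tmul_smul]
          simp only [TensorProduct.tmul_smul]
          exact smul_comm a c _)

theorem fwdAdd_tmul (m : M) (n : N) (s : S) :
    fwdAdd k S hS M N (ofTensor k R M N (m ⊗ₜ[k] n) ⊗ₜ[R ⊗[k] R] s) = n ⊗ₜ[R] (s ⊗ₜ[R] m) := rfl

/-- The comparison map in degree zero, semilinear over multiplication. -/
noncomputable def fwd : Box k R M N ⊗[R ⊗[k] R] S →ₛₗ[mu k R] N ⊗[R] (S ⊗[R] M) :=
  { fwdAdd k S hS M N with
    map_smul' := fun b z => by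
      show fwdAdd k S hS M N (b • z) = mu k R b • fwdAdd k S hS M N z
      induction z with
      | zero => simp
      | add z z' hz hz' => rw [smul_add, map_add, map_add, hz, hz', smul_add]
      | tmul x s =>
        obtain ⟨x, rfl⟩ := (ofTensor k R M N).surjective x
        induction x with
        | zero => simp
        | add x y hx hy => simp only [map_add, TensorProduct.add_tmul, smul_add, hx, hy]
        | tmul m n =>
          rw [← TensorProduct.tmul_smul, fwdAdd_tmul, fwdAdd_tmul, hS, ← TensorProduct.tmul_smul,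
            TensorProduct.smul_tmul'] }

theorem fwd_tmul (m : M) (n : N) (s : S) :
    fwd k S hS M N (ofTensor k R M N (m ⊗ₜ[k] n) ⊗ₜ[R ⊗[k] R] s) = n ⊗ₜ[R] (s ⊗ₜ[R] m) := rfl

/-- `s ⊗ m ↦ (m ⊠ n) ⊗ s`. -/
noncomputable def bwdAux (n : N) : S ⊗[R] M →+ Box k R M N ⊗[R ⊗[k] R] S :=
  TensorProduct.liftAddHom
    { toFun := fun s =>
        { toFun := fun m => ofTensor k R M N (m ⊗ₜ[k] n) ⊗ₜ[R ⊗[k] R] s
          map_zero' := by simp
          map_add' := fun m m' => by simp [TensorProduct.add_tmul] }
      map_zero' := by ext m; simp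
      map_add' := fun s s' => by ext m; simp [TensorProduct.tmul_add] }
    (fun r s m => by
      show ofTensor k R M N (m ⊗ₜ[k] n) ⊗ₜ[R ⊗[k] R] (r • s) =
        ofTensor k R M N ((r • m) ⊗ₜ[k] n) ⊗ₜ[R ⊗[k] R] s
      have h : r • s = (r ⊗ₜ[k] (1 : R)) • s := by rw [hS]; simp [mu]
      rw [h, ← TensorProduct.smul_tmul, smul_tmul_ofTensor, one_smul])

/-- The inverse in degree zero. -/
noncomputable def bwd : N ⊗[R] (S ⊗[R] M) →+ Box k R M N ⊗[R ⊗[k] R] S :=
  TensorProduct.liftAddHom
    { toFun := fun n => bwdAux k S hS M N n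
      map_zero' := by
        ext z
        induction z with
        | zero => simp
        | add z z' hz hz' => rw [map_add, hz, hz', map_add]
        | tmul s m => simp [bwdAux]
      map_add' := fun n n' => by
        ext z
        induction z with
        | zero => simp
        | add z z' hz hz' => rw [map_add, hz, hz', map_add]
        | tmul s m => simp [bwdAux, TensorProduct.add_tmul, TensorProduct.tmul_add] }
    (fun r n z => by
      show bwdAux k S hS M N (r • n) z = bwdAux k S hS M N n (r • z)
      induction z with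
      | zero => simp
      | add z z' hz hz' => rw [map_add, hz, hz', smul_add, map_add]
      | tmul s m =>
        have h : r • s = ((1 : R) ⊗ₜ[k] r) • s := by rw [hS]; simp [mu]
        rw [TensorProduct.smul_tmul']
        show ofTensor k R M N (m ⊗ₜ[k] (r • n)) ⊗ₜ[R ⊗[k] R] s =
          ofTensor k R M N (m ⊗ₜ[k] n) ⊗ₜ[R ⊗[k] R] (r • s)
        rw [h, ← TensorProduct.smul_tmul ((1 : R) ⊗ₜ[k] r), smul_tmul_ofTensor, one_smul])

theorem bwd_tmul (m : M) (n : N) (s : S) :
    bwd k S hS M N (n ⊗ₜ[R] (s ⊗ₜ[R] m)) = ofTensor k R M N (m ⊗ₜ[k] n) ⊗ₜ[R ⊗[k] R] s := rfl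

theorem fwd_bijective : Function.Bijective (fwd k S hS M N) := by
  refine ⟨Function.LeftInverse.injective (g := bwd k S hS M N) ?_,
    Function.RightInverse.surjective (g := bwd k S hS M N) ?_⟩
  · intro z
    induction z with
    | zero => simp
    | add z z' hz hz' => rw [map_add, map_add, hz, hz']
    | tmul x s =>
      obtain ⟨x, rfl⟩ := (ofTensor k R M N).surjective x
      induction x with
      | zero => simp
      | add x y hx hy => simp only [map_add, TensorProduct.add_tmul, hx, hy]
      | tmul m n => rw [fwd_tmul, bwd_tmul]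
  · intro z
    induction z with
    | zero => simp
    | add z z' hz hz' => rw [map_add, map_add, hz, hz']
    | tmul n w =>
      induction w with
      | zero => simp
      | add w w' hw hw' => simp only [TensorProduct.tmul_add, map_add, hw, hw']
      | tmul s m => rw [bwd_tmul, fwd_tmul]

variable {N' : Type u} [AddCommGroup N'] [Module k N'] [Module R N'] [IsScalarTower k R N']

theorem fwd_natural (f : N →ₗ[R] N') (z : Box k R M N ⊗[R ⊗[k] R] S) :
    fwd k S hS M N' ((boxMap k R f).rTensor S z) = f.rTensor (S ⊗[R] M) (fwd k S hS M N z) := by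
  induction z with
  | zero => simp
  | add z z' hz hz' => rw [map_add, map_add, map_add, map_add, hz, hz']
  | tmul x s =>
    obtain ⟨x, rfl⟩ := (ofTensor k R M N).surjective x
    induction x with
    | zero => simp
    | add x y hx hy => simp only [map_add, TensorProduct.add_tmul, hx, hy]
    | tmul m n =>
      rw [LinearMap.rTensor_tmul, boxMap_ofTensor, LinearMap.lTensor_tmul, fwd_tmul, fwd_tmul,
        LinearMap.rTensor_tmul]
      rfl

end Eta

variable [Module.Flat R S]

include hS in
/-- The higher `Tor` of `M ⊠ (R ⊗ V)` against `S` vanish. -/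
theorem subsingleton_tor_box_free (V : Type u) [AddCommGroup V] [Module k V] (j : ℕ) :
    Subsingleton (DRing.Tor (R ⊗[k] R) (j + 1) (Box k R M (R ⊗[k] V)) S) := by
  haveI : IsScalarTower R (R ⊗[k] R) S := IsScalarTower.of_algebraMap_smul fun r s => by
    rw [hS]; simp [mu]
  obtain ⟨φ, hφ⟩ := Groth.Agent.S4494.result R (R ⊗[k] R) S (M ⊗[k] V) (j + 1)
  haveI : Subsingleton (DRing.Tor R (j + 1) S (M ⊗[k] V)) :=
    (Groth.Agent.S3527.result R S (M ⊗[k] V) (j + 1) j.succ_pos).1
  haveI : Subsingleton (DRing.Tor (R ⊗[k] R) (j + 1) S ((R ⊗[k] R) ⊗[R] (M ⊗[k] V))) := hφ.2.subsingleton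
  have e₁ := (Groth.Agent.H9Misc.TorBalance.torSymm (ModuleCat.of (R ⊗[k] R) S)
    (ModuleCat.of (R ⊗[k] R) ((R ⊗[k] R) ⊗[R] (M ⊗[k] V))) (j + 1)).toLinearEquiv
  haveI : Subsingleton (DRing.Tor (R ⊗[k] R) (j + 1) ((R ⊗[k] R) ⊗[R] (M ⊗[k] V)) S) :=
    e₁.surjective.subsingleton
  exact ((TorBridge.nonempty_tor_congr (LinearEquiv.ofBijective (freeMap k R M V) (freeMap_bijective k R M V))
    (j + 1) S).some).surjective.subsingleton

include hS in
/-- **Reduction to the diagonal**: `Tor` over `R ⊗ R` of `M ⊠ N` against a flat `R`-module `S` is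
`Tor` over `R` of `N` against `S ⊗ M`. -/
theorem exists_tor_bijective (i : ℕ) : ∀ (N : Type u) [AddCommGroup N] [Module k N] [Module R N]
    [IsScalarTower k R N], ∃ g : DRing.Tor (R ⊗[k] R) i (Box k R M N) S →ₛₗ[mu k R]
      DRing.Tor R i N (S ⊗[R] M), Function.Bijective g := by
  induction i using Nat.strong_induction_on with
  | _ i ih =>
  intro N _ _ _ _
  let p : R ⊗[k] N →ₗ[R] N := LinearMap.liftBaseChange R (LinearMap.id : N →ₗ[k] N)
  have hp : Function.Surjective p := fun n => ⟨(1 : R) ⊗ₜ[k] n, by simp [p]⟩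
  let ι : LinearMap.ker p →ₗ[R] R ⊗[k] N := (LinearMap.ker p).subtype
  have hex : Function.Exact ι p := LinearMap.exact_subtype_ker_map p
  have hι : Function.Injective ι := Subtype.val_injective
  have hvan : ∀ j, Subsingleton (DRing.Tor R (j + 1) (R ⊗[k] N) (S ⊗[R] M)) := fun j =>
    (Groth.Agent.S3527.result R (R ⊗[k] N) (S ⊗[R] M) (j + 1) j.succ_pos).1
  have hbe := boxMap_exact k R (M := M) (N := ↥(LinearMap.ker p)) (N' := R ⊗[k] N) ι p hex hp
  have hbi := boxMap_injective k R (M := M) (N := ↥(LinearMap.ker p)) (N' := R ⊗[k] N) ι hι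
  have hbs := boxMap_surjective k R (M := M) (N := R ⊗[k] N) p hp
  have hbv := subsingleton_tor_box_free k S hS M N
  match i, ih with
  | 0, _ =>
    obtain ⟨a⟩ := nonempty_tor_zero (R := R ⊗[k] R) (Box k R M N) S
    obtain ⟨b⟩ := nonempty_tor_zero (R := R) N (S ⊗[R] M)
    exact ⟨b.symm.toLinearMap.comp ((fwd k S hS M N).comp a.toLinearMap),
      b.symm.bijective.comp ((fwd_bijective k S hS M N).comp a.bijective)⟩
  | 1, _ =>
    obtain ⟨a⟩ := nonempty_tor_one hbe hbi hbs S (hbv 0)
    obtain ⟨b⟩ := nonempty_tor_one (A := ↥(LinearMap.ker p)) (B := R ⊗[k] N) hex hι hp (S ⊗[R] M) (hvan 0)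
    let c : LinearMap.ker ((boxMap k R (M := M) (N := ↥(LinearMap.ker p)) (N' := R ⊗[k] N) ι).rTensor S) →ₛₗ[mu k R]
        LinearMap.ker (ι.rTensor (S ⊗[R] M)) :=
      LinearMap.codRestrict _ ((fwd k S hS M (LinearMap.ker p)).comp (Submodule.subtype _)) fun x => by
        show ι.rTensor (S ⊗[R] M) (fwd k S hS M (LinearMap.ker p) x.1) = 0
        rw [← fwd_natural k S hS M ↥(LinearMap.ker p) (N' := R ⊗[k] N) ι, LinearMap.mem_ker.1 x.2, map_zero]
    have hc : Function.Bijective c := by
      refine ⟨fun x y h => Subtype.ext ((fwd_bijective k S hS M ↥(LinearMap.ker p)).1 (congrArg Subtype.val h)), fun y => ?_⟩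
      obtain ⟨x, hx⟩ := (fwd_bijective k S hS M ↥(LinearMap.ker p)).2 y.1
      refine ⟨⟨x, LinearMap.mem_ker.2 ((fwd_bijective k S hS M (R ⊗[k] N)).1 ?_)⟩, Subtype.ext hx⟩
      rw [map_zero, fwd_natural k S hS M ↥(LinearMap.ker p) (N' := R ⊗[k] N) ι, hx]
      exact y.2
    exact ⟨b.symm.toLinearMap.comp (c.comp a.toLinearMap), b.symm.bijective.comp (hc.comp a.bijective)⟩
  | j + 2, ih =>
    obtain ⟨a⟩ := nonempty_tor_add_two hbe hbi hbs S hbv j
    obtain ⟨b⟩ := nonempty_tor_add_two (A := ↥(LinearMap.ker p)) (B := R ⊗[k] N) hex hι hp (S ⊗[R] M) hvan j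
    obtain ⟨g, hg⟩ := ih (j + 1) (by omega) (LinearMap.ker p)
    exact ⟨b.symm.toLinearMap.comp (g.comp a.toLinearMap), b.symm.bijective.comp (hg.comp a.bijective)⟩

end Groth.Agent.TorDiag
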