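import Groth.Agent.TorDiag.Product
import Groth.Agent.CotTLib.SmoothField
import Groth.Agent.RegLoc6.Seq
import Groth.Agent.SamuelKoszul.Pos
import Mathlib

/-!
# Positivity of the Tor multiplicity on a smooth affine variety
-/

set_option autoImplicit false
set_option linter.style.haveILetI false
set_option maxHeartbeats 800000

universe u

open CategoryTheory TensorProduct IsLocalRing

namespace Groth.Agent.TorDiag

/-- **Serre's positivity** of the Tor multiplicity, for subvarieties of a smooth affine variety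
meeting properly at a point. -/
theorem chi_pos (k R : Type u) [Field k] [IsAlgClosed k] [CommRing R] [IsDomain R] [Algebra k R]
    [Algebra.FiniteType k R] [Algebra.Smooth k R] (P Q p : Ideal R) [P.IsPrime] [Q.IsPrime] [p.IsPrime]
    (hPp : P ≤ p) (hQp : Q ≤ p) (A : Type u) [CommRing A] [Algebra R A] [IsLocalization.AtPrime A p]
    [IsLocalRing A]
    (hfin : ∃ m : ℕ, maximalIdeal A ^ m ≤ P.map (algebraMap R A) ⊔ Q.map (algebraMap R A))
    {n r s d : ℕ} (hn : ringKrullDim R = n) (hr : ringKrullDim (R ⧸ P) = r) (hs : ringKrullDim (R ⧸ Q) = s)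
    (hd : ringKrullDim (R ⧸ p) = d) (hprop : d + n ≤ r + s) :
    0 < IntMult.chi A (A ⧸ P.map (algebraMap R A)) (A ⧸ Q.map (algebraMap R A)) := by
  let q : Ideal (R ⊗[k] R) := p.comap (mu k R)
  haveI : q.IsPrime := Ideal.IsPrime.comap _
  let B' := Localization.AtPrime q
  have hle : q.primeCompl ≤ p.primeCompl.comap (mu k R) := fun x hx => hx
  let ν : B' →+* A := IsLocalization.map A (mu k R) hle
  have hν : ν.comp (algebraMap (R ⊗[k] R) B') = (algebraMap R A).comp (mu k R) := IsLocalization.map_comp hle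
  have hsurj : Function.Surjective ν := by
    intro z
    obtain ⟨a, b, rfl⟩ := IsLocalization.exists_mk'_eq p.primeCompl z
    refine ⟨IsLocalization.mk' B' (a ⊗ₜ[k] (1 : R)) (⟨(b : R) ⊗ₜ[k] (1 : R), fun h => b.2 (?_)⟩ : q.primeCompl), ?_⟩
    · simpa [q, mu] using h
    · rw [IsLocalization.map_mk']
      congr 1 <;> simp [mu]
  -- both local rings are regular
  haveI : Algebra.Smooth k (R ⊗[k] R) := Algebra.Smooth.comp k R (R ⊗[k] R)
  haveI : Algebra.FiniteType k (R ⊗[k] R) := inferInstance
  haveI : Algebra.IsSmoothAt k q :=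
    Set.eq_univ_iff_forall.1 ((Algebra.smoothLocus_eq_univ_iff (R := k) (A := R ⊗[k] R)).2 inferInstance) ⟨q, inferInstance⟩
  haveI : Algebra.IsSmoothAt k p :=
    Set.eq_univ_iff_forall.1 ((Algebra.smoothLocus_eq_univ_iff (R := k) (A := R)).2 inferInstance) ⟨p, inferInstance⟩
  haveI : IsRegularLocalRing B' := CotTLib.isRegularLocalRing_of_isSmoothAt (k := k) q
  haveI : IsRegularLocalRing A := by
    haveI := CotTLib.isRegularLocalRing_of_isSmoothAt (k := k) p
    exact IsRegularLocalRing.of_ringEquiv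
      (IsLocalization.algEquiv p.primeCompl (Localization.AtPrime p) A).toRingEquiv
  haveI : IsRegularLocalRing (B' ⧸ RingHom.ker ν) :=
    IsRegularLocalRing.of_ringEquiv (RingHom.quotientKerEquivOfSurjective hsurj).symm
  obtain ⟨rs, hmem, hreg, hker⟩ :=
    RegLoc6.exists_list_of_quotient _ B' (RingHom.ker ν) le_rfl inferInstance
  -- dimensions
  obtain ⟨hdomB, hdimB⟩ := tensor_variety k R R
  haveI := hdomB
  rw [hn] at hdimB
  have hdq : ringKrullDim ((R ⊗[k] R) ⧸ q) = d := by
    have hsm : Function.Surjective ((Ideal.Quotient.mk p).comp (mu k R)) :=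
      Ideal.Quotient.mk_surjective.comp (RingHomSurjective.is_surjective (σ := mu k R))
    have hk : RingHom.ker ((Ideal.Quotient.mk p).comp (mu k R)) = q := by
      rw [← RingHom.comap_ker, Ideal.mk_ker]
    rw [← hk, ringKrullDim_eq_of_ringEquiv (RingHom.quotientKerEquivOfSurjective hsm), hd]
  obtain ⟨a, ha, had⟩ := dim_localization (k := k) q B' (D := n + n) (d := d) (by exact_mod_cast hdimB) hdq
  obtain ⟨b, hb, hbd⟩ := dim_localization (k := k) p A hn hd
  have hlen : rs.length = n := by
    have h := ringKrullDim_add_length_eq_ringKrullDim_of_isRegular rs (RegLoc6.isRegular_iff_weakly rs hmem hreg)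
    rw [hker, ringKrullDim_eq_of_ringEquiv (RingHom.quotientKerEquivOfSurjective hsurj), hb, ha] at h
    have h' : b + rs.length = a := by exact_mod_cast h
    omega
  obtain ⟨hdomC, hdimC⟩ := tensor_variety k (R ⧸ P) (R ⧸ Q)
  haveI := hdomC
  haveI hI0 : (prodIdeal k R P Q).IsPrime := by
    rw [← ker_map_mk]; exact RingHom.ker_isPrime _
  have hI0q : prodIdeal k R P Q ≤ q := by
    refine sup_le ?_ ?_ <;> rw [Ideal.map_le_iff_le_comap] <;> intro x hx
    · show mu k R (x ⊗ₜ[k] (1 : R)) ∈ p
      simpa [mu] using hPp hx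
    · show mu k R ((1 : R) ⊗ₜ[k] x) ∈ p
      simpa [mu] using hQp hx
  have hdC : ringKrullDim ((R ⊗[k] R) ⧸ prodIdeal k R P Q) = ((r + s : ℕ) : WithBot ℕ∞) := by
    have hsm : Function.Surjective
        (Algebra.TensorProduct.map (Ideal.Quotient.mkₐ k P) (Ideal.Quotient.mkₐ k Q)) :=
      TensorProduct.map_surjective Ideal.Quotient.mk_surjective Ideal.Quotient.mk_surjective
    rw [← ker_map_mk,
      ringKrullDim_eq_of_ringEquiv (Ideal.quotientKerAlgEquivOfSurjective hsm).toRingEquiv, hdimC, hr, hs]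
    rfl
  obtain ⟨c, hc, hcd⟩ := dim_quot_localization (k := k) (prodIdeal k R P Q) q hI0q hdC hdq
  -- finite length
  let I : Ideal B' := (prodIdeal k R P Q).map (algebraMap _ B')
  have hmapI : I.map ν = P.map (algebraMap R A) ⊔ Q.map (algebraMap R A) := by
    have h1 : ((algebraMap R A).comp (mu k R)).comp
        ((Algebra.TensorProduct.includeLeft : R →ₐ[k] R ⊗[k] R) : R →+* R ⊗[k] R) = algebraMap R A := by
      ext x; simp [mu]
    have h2 : ((algebraMap R A).comp (mu k R)).comp
        ((Algebra.TensorProduct.includeRight : R →ₐ[k] R ⊗[k] R) : R →+* R ⊗[k] R) = algebraMap R A := by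
      ext x; simp [mu]
    have he : prodIdeal k R P Q =
        P.map ((Algebra.TensorProduct.includeLeft : R →ₐ[k] R ⊗[k] R) : R →+* R ⊗[k] R) ⊔
          Q.map ((Algebra.TensorProduct.includeRight : R →ₐ[k] R ⊗[k] R) : R →+* R ⊗[k] R) := rfl
    rw [Ideal.map_map, hν, he, Ideal.map_sup, Ideal.map_map, Ideal.map_map]
    exact congrArg₂ (fun φ ψ => Ideal.map φ P ⊔ Ideal.map ψ Q) h1 h2
  have hI1 : I ≠ ⊤ := fun ht => by
    haveI : Subsingleton (B' ⧸ I) := Ideal.Quotient.subsingleton_iff.2 ht
    have := ringKrullDim_eq_bot_of_subsingleton (R := B' ⧸ I)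
    rw [hc] at this
    exact WithBot.coe_ne_bot this
  haveI : IsLocalHom ν := hsurj.isLocalHom
  have hJ : ∃ m : ℕ, maximalIdeal B' ^ m ≤ I ⊔ RingHom.ker ν := by
    obtain ⟨m, hm⟩ := hfin
    refine ⟨m, ?_⟩
    rw [RingHom.ker_eq_comap_bot, ← Ideal.comap_map_of_surjective ν hsurj, hmapI,
      ← Ideal.map_le_iff_le_comap, Ideal.map_pow]
    exact le_trans (Ideal.pow_right_mono ((IsLocalRing.map_maximalIdeal_of_surjective ν hsurj).le) m) hm
  have hg : Ideal.span (Set.range rs.get) = RingHom.ker ν := by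
    rw [← hker, Ideal.ofList, Set.range_list_get]
  have key := (Groth.Agent.SamuelKoszul.main I hI1 rs.get (by rw [List.ofFn_get]; exact hreg)
    (fun i => hmem _ (List.get_mem rs i)) (by rw [hg]; exact hJ)
    (by rw [hc, hlen]; exact_mod_cast (show n ≤ c by omega))).2
  haveI : Module.Flat R A := IsLocalization.flat A p.primeCompl
  rw [hg, Groth.Agent.SamuelKoszul.chi_comm,
    chi_eq k R P Q q.primeCompl (A := A) ν hν hsurj] at key
  exact key

end Groth.Agent.TorDiag
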