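import Groth.Agent.TorDiag.Local
import Groth.Agent.S1582
import Groth.Agent.FibDim.BaseField
import Groth.Agent.VarDim.Basic
import Groth.Agent.RegLoc6.Open
import Mathlib

/-!
# Tensor products of affine varieties
-/

set_option autoImplicit false
set_option linter.style.haveILetI false
set_option maxHeartbeats 800000

universe u

open CategoryTheory CategoryTheory.Limits AlgebraicGeometry TensorProduct Order

namespace Groth.Agent.TorDiag

/-- The product of two affine varieties over an algebraically closed field is a variety, and its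
dimension is the sum of the dimensions. -/
theorem tensor_variety (k C D : Type u) [Field k] [IsAlgClosed k] [CommRing C] [CommRing D] [Algebra k C]
    [Algebra k D] [IsDomain C] [IsDomain D] [Algebra.FiniteType k C] [Algebra.FiniteType k D] :
    IsDomain (C ⊗[k] D) ∧ ringKrullDim (C ⊗[k] D) = ringKrullDim C + ringKrullDim D := by
  let f := Spec.map (CommRingCat.ofHom (algebraMap k C))
  let g := Spec.map (CommRingCat.ofHom (algebraMap k D))
  haveI : LocallyOfFiniteType f :=
    (HasRingHomProperty.Spec_iff (P := @LocallyOfFiniteType)).2 (RingHom.finiteType_algebraMap.2 ‹_›)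
  haveI : LocallyOfFiniteType g :=
    (HasRingHomProperty.Spec_iff (P := @LocallyOfFiniteType)).2 (RingHom.finiteType_algebraMap.2 ‹_›)
  haveI : IsIntegral (pullback f g) := Groth.Agent.S1582.result k _ _ f g
  haveI : Subsingleton ↥(Spec (CommRingCat.of k)) := inferInstanceAs (Subsingleton (PrimeSpectrum k))
  have e := pullbackSpecIso k C D
  haveI : IsIntegral (Spec (CommRingCat.of (C ⊗[k] D))) :=
    haveI : Nonempty ↥(Spec (CommRingCat.of (C ⊗[k] D))) :=
      ⟨e.hom.base (Classical.arbitrary ↥(pullback f g))⟩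
    isIntegral_of_isOpenImmersion e.inv
  refine ⟨(affine_isIntegral_iff (CommRingCat.of (C ⊗[k] D))).1 inferInstance, ?_⟩
  have h := FibDim.topologicalKrullDim_pullback (f := f) (g := g)
  rw [e.hom.homeomorph.isHomeomorph.topologicalKrullDim_eq] at h
  change topologicalKrullDim (PrimeSpectrum (C ⊗[k] D)) =
    topologicalKrullDim (PrimeSpectrum C) + topologicalKrullDim (PrimeSpectrum D) at h
  rwa [PrimeSpectrum.topologicalKrullDim_eq_ringKrullDim, PrimeSpectrum.topologicalKrullDim_eq_ringKrullDim,
    PrimeSpectrum.topologicalKrullDim_eq_ringKrullDim] at h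

/-- The dimension formula for a localised quotient. -/
theorem dim_quot_localization {k : Type u} [Field k] {S : Type u} [CommRing S] [Algebra k S]
    [Algebra.FiniteType k S] (I q : Ideal S) [q.IsPrime] [I.IsPrime] (hIq : I ≤ q) {D d : ℕ}
    (hD : ringKrullDim (S ⧸ I) = D) (hd : ringKrullDim (S ⧸ q) = d) :
    ∃ a : ℕ, ringKrullDim (Localization.AtPrime q ⧸ I.map (algebraMap S (Localization.AtPrime q))) = a ∧
      a + d = D := by
  let q' : Ideal (S ⧸ I) := q.map (Ideal.Quotient.mk I)
  have hq' : q'.comap (Ideal.Quotient.mk I) = q := by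
    rw [Ideal.comap_map_of_surjective _ Ideal.Quotient.mk_surjective, ← RingHom.ker_eq_comap_bot,
      Ideal.mk_ker, sup_eq_left.2 hIq]
  haveI : q'.IsPrime := Ideal.map_isPrime_of_surjective Ideal.Quotient.mk_surjective
    (by rw [Ideal.mk_ker]; exact hIq)
  obtain ⟨e⟩ := RegLoc6.exists_quotLocalEquiv I q q' hq'
  rw [ringKrullDim_eq_of_ringEquiv e, IsLocalization.AtPrime.ringKrullDim_eq_height q']
  have h := Groth.Agent.VarDim.height_add_coheight_eq k D (S ⧸ I) hD ⟨q', inferInstance⟩
  have h2 := Groth.Agent.VarDim.coheight_eq_ringKrullDim_quotient (⟨q', inferInstance⟩ : PrimeSpectrum (S ⧸ I))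
  rw [show (⟨q', inferInstance⟩ : PrimeSpectrum (S ⧸ I)).asIdeal = q.map (Ideal.Quotient.mk I) from rfl,
    ringKrullDim_eq_of_ringEquiv (DoubleQuot.quotQuotEquivQuotOfLE hIq), hd] at h2
  have h3 : (coheight (⟨q', inferInstance⟩ : PrimeSpectrum (S ⧸ I))) = (d : ℕ∞) :=
    WithBot.coe_injective h2
  have h4 : Ideal.height q' = height (⟨q', inferInstance⟩ : PrimeSpectrum (S ⧸ I)) :=
    PrimeSpectrum.height_eq_orderHeight ⟨q', inferInstance⟩
  rw [← h4, h3] at h
  have hne : Ideal.height q' ≠ ⊤ := fun ht => by rw [ht, top_add] at h; exact ENat.top_ne_natCast D h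
  lift Ideal.height q' to ℕ using hne with a ha
  exact ⟨a, rfl, by exact_mod_cast h⟩

/-- The dimension formula for a localisation. -/
theorem dim_localization {k : Type u} [Field k] {S : Type u} [CommRing S] [IsDomain S] [Algebra k S]
    [Algebra.FiniteType k S] (q : Ideal S) [q.IsPrime] (B : Type u) [CommRing B] [Algebra S B]
    [IsLocalization.AtPrime B q] {D d : ℕ} (hD : ringKrullDim S = D) (hd : ringKrullDim (S ⧸ q) = d) :
    ∃ a : ℕ, ringKrullDim B = a ∧ a + d = D := by
  rw [IsLocalization.AtPrime.ringKrullDim_eq_height q B]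
  have h := Groth.Agent.VarDim.height_add_coheight_eq k D S hD ⟨q, inferInstance⟩
  have h2 := Groth.Agent.VarDim.coheight_eq_ringKrullDim_quotient (⟨q, inferInstance⟩ : PrimeSpectrum S)
  rw [show (⟨q, inferInstance⟩ : PrimeSpectrum S).asIdeal = q from rfl, hd] at h2
  have h3 : (coheight (⟨q, inferInstance⟩ : PrimeSpectrum S)) = (d : ℕ∞) := WithBot.coe_injective h2
  have h4 : Ideal.height q = height (⟨q, inferInstance⟩ : PrimeSpectrum S) := PrimeSpectrum.height_eq_orderHeight ⟨q, inferInstance⟩
  rw [← h4, h3] at h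
  have hne : Ideal.height q ≠ ⊤ := fun ht => by rw [ht, top_add] at h; exact ENat.top_ne_natCast D h
  lift Ideal.height q to ℕ using hne with a ha
  exact ⟨a, rfl, by exact_mod_cast h⟩

end Groth.Agent.TorDiag
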